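import Mathlib

/-! Element orders in general linear groups over finite fields: realisation of divisors of `q^d - 1`
and the bound on orders prime to the characteristic. -/

set_option autoImplicit false

namespace Cfsg.Agent.KnownB

open Matrix Polynomial

/-- The block diagonal embedding `GL_ι → GL_{ι ⊕ κ}`, `g ↦ diag(g, 1)`. -/
def blockOneHom (ι κ : Type*) [Fintype ι] [DecidableEq ι] [Fintype κ] [DecidableEq κ]
    (R : Type*) [CommRing R] : Matrix ι ι R →* Matrix (ι ⊕ κ) (ι ⊕ κ) R where
  toFun M := Matrix.fromBlocks M 0 0 1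
  map_one' := Matrix.fromBlocks_one
  map_mul' A B := by simp [Matrix.fromBlocks_multiply]

theorem exists_gl_orderOf {F : Type*} [Field F] [Fintype F] {n d e : ℕ} (hd : 0 < d)
    (hdn : d ≤ n) (he : e ∣ Fintype.card F ^ d - 1) :
    ∃ g : GL (Fin n) F, orderOf g = e := by
  classical
  obtain ⟨p, hp⟩ := CharP.exists F
  haveI := hp
  haveI : Fact p.Prime := ⟨CharP.char_is_prime F p⟩
  haveI : NeZero d := ⟨hd.ne'⟩
  let K := FiniteField.Extension F p d
  haveI : Finite K := Module.finite_of_finite F
  haveI : Fintype K := Fintype.ofFinite K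
  have hrank : Module.finrank F K = d := FiniteField.finrank_extension (k := F) (p := p) (n := d)
  have hcard : Fintype.card K = Fintype.card F ^ d := by
    rw [Module.card_eq_pow_finrank (K := F) (V := K), hrank]
  obtain ⟨z, hz⟩ := IsCyclic.exists_ofOrder_eq_natCard (α := Kˣ)
  have hz' : orderOf z = Fintype.card F ^ d - 1 := by
    rw [hz, Nat.card_eq_fintype_card, Fintype.card_units, hcard]
  let b : Module.Basis (Fin d) F K := Module.finBasisOfFinrankEq F K hrank
  let ψ : K →* Matrix (Fin d) (Fin d) F := (Algebra.leftMulMatrix b).toRingHom.toMonoidHom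
  let eq : Fin d ⊕ Fin (n - d) ≃ Fin n := finSumFinEquiv.trans (finCongr (by omega))
  let re : Matrix (Fin d ⊕ Fin (n - d)) (Fin d ⊕ Fin (n - d)) F →* Matrix (Fin n) (Fin n) F :=
    (Matrix.reindexAlgEquiv F F eq).toAlgHom.toRingHom.toMonoidHom
  let φ : Kˣ →* GL (Fin n) F :=
    Units.map (re.comp ((blockOneHom (Fin d) (Fin (n - d)) F).comp ψ))
  have hinj : Function.Injective φ := by
    apply Units.map_injective
    intro x y h
    apply Algebra.leftMulMatrix_injective b
    have h2 := (Matrix.reindexAlgEquiv F F eq).injective h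
    exact (Matrix.fromBlocks_inj.mp h2).1
  refine ⟨φ (z ^ ((Fintype.card F ^ d - 1) / e)), ?_⟩
  have hpos : 0 < Fintype.card F ^ d - 1 := by
    have := Nat.one_lt_pow hd.ne' (Fintype.one_lt_card (α := F))
    omega
  rw [orderOf_injective φ hinj, orderOf_pow_of_dvd, hz', Nat.div_div_self he hpos.ne']
  · exact (Nat.div_pos (Nat.le_of_dvd hpos he) (Nat.pos_of_dvd_of_pos he hpos)).ne'
  · rw [hz']; exact Nat.div_dvd_of_dvd he

theorem dvd_of_squarefree {R : Type*} [CommRing R] [IsDomain R] [IsPrincipalIdealRing R]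
    {m P : R} (hm : Squarefree m) (h : ∀ f, Prime f → f ∣ m → f ∣ P) : m ∣ P := by
  induction m using UniqueFactorizationMonoid.induction_on_prime with
  | h₁ => exact absurd hm not_squarefree_zero
  | h₂ x hx => exact hx.dvd
  | h₃ a f _ hf ih =>
    have hsq := hm.squarefree_of_dvd (dvd_mul_left a f)
    have hcop : IsCoprime f a := by
      refine (hf.irreducible.coprime_iff_not_dvd).mpr fun hfa => hf.not_isUnit ?_
      exact hm f (mul_dvd_mul_left f hfa)
    exact hcop.mul_dvd (h f hf (dvd_mul_right f a))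
      (ih hsq fun g hg hga => h g hg (dvd_mul_of_dvd_right hga f))

/-- If the order of `g ∈ GL_n(F)` is prime to the characteristic it divides every common multiple
of the numbers `q^d - 1`, `1 ≤ d ≤ n`. -/
theorem orderOf_dvd_of_coprime {F : Type*} [Field F] [Fintype F] {n : ℕ} (g : GL (Fin n) F)
    (hco : ((orderOf g : ℕ) : F) ≠ 0) {L : ℕ}
    (hL : ∀ d, 0 < d → d ≤ n → Fintype.card F ^ d - 1 ∣ L) : orderOf g ∣ L := by
  classical
  set A : Matrix (Fin n) (Fin n) F := (g : Matrix (Fin n) (Fin n) F) with hA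
  have hN : A ^ orderOf g = 1 := by
    rw [hA, ← Units.val_pow_eq_pow_val, pow_orderOf_eq_one]; rfl
  have hdiv : minpoly F A ∣ (X : F[X]) ^ orderOf g - C 1 := by
    apply minpoly.dvd
    simp [hN]
  have hsep : ((X : F[X]) ^ orderOf g - C 1).Separable :=
    separable_X_pow_sub_C 1 hco one_ne_zero
  have hsq : Squarefree (minpoly F A) := (hsep.of_dvd hdiv).squarefree
  have key : minpoly F A ∣ (X : F[X]) ^ L - 1 := by
    refine dvd_of_squarefree hsq fun f hf hfd => ?_
    haveI : Fact (Irreducible f) := ⟨hf.irreducible⟩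
    haveI : Module.Finite F (AdjoinRoot f) := (AdjoinRoot.powerBasis hf.ne_zero).finite
    haveI : Finite (AdjoinRoot f) := Module.finite_of_finite F
    haveI : Fintype (AdjoinRoot f) := Fintype.ofFinite _
    have hdeg : f.natDegree ≤ n := by
      calc f.natDegree ≤ (minpoly F A).natDegree :=
            natDegree_le_of_dvd hfd (minpoly.ne_zero (Algebra.IsIntegral.isIntegral A))
        _ ≤ A.charpoly.natDegree :=
            natDegree_le_of_dvd (Matrix.minpoly_dvd_charpoly A) (A.charpoly_monic.ne_zero)
        _ = n := by simp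
    have hcard : Fintype.card (AdjoinRoot f) = Fintype.card F ^ f.natDegree := by
      rw [Module.card_eq_pow_finrank (K := F) (V := AdjoinRoot f),
        (AdjoinRoot.powerBasis hf.ne_zero).finrank, AdjoinRoot.powerBasis_dim]
    have hroot : AdjoinRoot.root f ≠ 0 := by
      intro h0
      have h1 : (X : F[X]) ^ orderOf g - C 1 = 0 ∨ f ∣ (X : F[X]) ^ orderOf g - C 1 :=
        Or.inr (hfd.trans hdiv)
      rcases h1 with h1 | h1
      · exact absurd (hsep.squarefree) (h1 ▸ not_squarefree_zero)
      · have := AdjoinRoot.mk_eq_zero.mpr h1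
        have hpos : orderOf g ≠ 0 := fun h => hco (by simp [h])
        simp [h0, zero_pow hpos] at this
    have hone : AdjoinRoot.root f ^ L = 1 := by
      obtain ⟨c, hc⟩ := hL _ hf.irreducible.natDegree_pos hdeg
      rw [hc, pow_mul, ← hcard, FiniteField.pow_card_sub_one_eq_one _ hroot, one_pow]
    exact AdjoinRoot.mk_eq_zero.mp (by simp [hone])
  obtain ⟨c, hc⟩ := key
  have hAL : A ^ L = 1 := by
    have := congrArg (Polynomial.aeval A) hc
    simp [minpoly.aeval] at this
    exact sub_eq_zero.mp this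
  exact orderOf_dvd_of_pow_eq_one (Units.ext (by simpa [hA] using hAL))

end Cfsg.Agent.KnownB
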